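import Groth.Agent.KoszulFpqc.Space
import Groth.Agent.AlgSpLib.Criteria
import Groth.Agent.AlgStLib.LocQResults
import Groth.Agent.SyntLimit.Main
import Groth.Agent.S10666

/-!
# Local complete intersection morphisms are smooth local on source and target
-/

set_option autoImplicit false
set_option linter.style.haveILetI false
set_option backward.isDefEq.respectTransparency false
set_option backward.isDefEq.respectTransparency.types false

universe u

noncomputable section

open CategoryTheory CategoryTheory.Limits AlgebraicGeometry Opposite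

namespace Groth.Agent.LciSmST

open _root_.AlgSp _root_.AlgSt Groth.Agent.AlgSpLib Groth.Agent.LargestOpen

theorem synMor_smooth {X Y : Scheme.{u}} (f : X ⟶ Y) [Smooth f] : SyntLib.SynMor f :=
  SyntLimit.synMor_of_smooth f

theorem isKoszulAt_smooth {X Y : Scheme.{u}} (f : X ⟶ Y) [Smooth f] (x : X) : Synt.IsKoszulAt f x :=
  SyntLib.isKoszulAt_of_synMor f (synMor_smooth f) x

instance : IsZariskiLocalAtSource (AlgSp.lci : MorphismProperty Scheme.{u}) := by
  haveI : (AlgSp.lci : MorphismProperty Scheme.{u}).RespectsIso := by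
    refine MorphismProperty.RespectsIso.mk _ (fun e f hf => ?_) (fun e f hf => ?_)
    · exact KoszulLib.isKoszulAt_comp e.hom f (LciSp.isKoszulAt_of_etale _) hf
    · exact KoszulLib.isKoszulAt_comp f e.hom hf (LciSp.isKoszulAt_of_etale _)
  refine IsZariskiLocalAtSource.mk' (fun {X Y} f U hf => ?_) (fun {X Y} f ι U hU hf x => ?_)
  · exact KoszulLib.isKoszulAt_comp U.ι f (LciSp.isKoszulAt_of_etale _) hf
  · obtain ⟨i, hi⟩ := TopologicalSpace.Opens.mem_iSup.1 ((hU : iSup U = ⊤).symm ▸ (TopologicalSpace.Opens.mem_top x))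
    exact KoszulFpqc.isKoszulAt_of_openImmersion (U i).ι f (z := ⟨x, hi⟩) (hf i _)

variable {S : Scheme.{u}}

theorem isLocalOnSource : IsLocalOnSource (IsSmCover (S := S)) (LocP AlgSp.lci) := by
  haveI : MorphismProperty.IsLocalAtSource (AlgSp.lci : MorphismProperty Scheme.{u}) (Scheme.precoverage @Smooth) :=
    AlgSpLib.isLocalAtSource_precoverage (R := (@Smooth : MorphismProperty Scheme.{u}))
      (fun _ _ _ f g hf hg => by
        haveI : Smooth f := hf
        exact KoszulLib.isKoszulAt_comp f g (isKoszulAt_smooth f) hg)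
      (fun _ _ _ f g hf hs h => by
        haveI : Smooth f := hf
        haveI : Surjective f := hs
        exact (S9730.result f ((SyntLib.isSyntomicMor_iff f).2 (synMor_smooth f)) g).1 h) _ le_rfl
  exact AlgSpLib.isLocalOnSource_smooth AlgSp.lci

theorem isLocalOnBase : IsLocalOnBase (IsSmCover (S := S)) (LocP AlgSp.lci) := by
  intro ι Y Yi g hY hYi hg
  exact KoszulFpqc.isLocalOnBase_lci Yi g hY hYi (isFpqcCover_of_fppf hY hYi
    ⟨fun i => ⟨AlgStLib.locP_mono (fun _ _ r hr => by haveI : Smooth r := hr; infer_instance) _ (hg.1 i),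
      AlgStLib.locP_mono (fun _ _ r hr => by haveI : Smooth r := hr; infer_instance) _ (hg.1 i)⟩, hg.2⟩)

theorem comp_smooth {X Y Z : Sp S} (hY : IsAlgSpace Y) (hZ : IsAlgSpace Z) {f : X ⟶ Y} {g : Y ⟶ Z}
    (hf : LocP AlgSp.lci f) (hg : LocP @Smooth g) : LocP AlgSp.lci (f ≫ g) := by
  intro U W a c k ha hc comm
  have sq := IsPullback.of_hasPullback g c
  have hP : IsAlgSpace (pullback g c) := isAlgSpace_of_isPullback_space hZ hY (IsAlgSpace.yon_obj W) sq
  obtain ⟨V, r, hr, hrs⟩ := hP.atlas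
  obtain ⟨v, hv⟩ := exists_map_eq (r ≫ pullback.snd g c)
  have hb : RepWith @Etale (r ≫ pullback.fst g c) := repWith_comp hr (repWith_baseChange sq.flip hc |> fun h => by exact h)
  haveI : Smooth v.left := hg (r ≫ pullback.fst g c) c v hb hc (by
    rw [hv, Category.assoc, Category.assoc, pullback.condition])
  let l : (yon S).obj U ⟶ pullback g c := pullback.lift (a ≫ f) ((yon S).map k) (by rw [Category.assoc, comm])
  obtain ⟨U', u₁, u₂, sqU⟩ := exists_pullback hP.diag l r
  haveI : Etale u₁.left := (repWith_yon_iff u₁).1 (repWith_baseChange sqU.flip hr)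
  haveI : Surjective u₁.left := (repWith_yon_iff u₁).1 (repWith_baseChange sqU.flip hrs)
  have ha' : RepWith @Etale ((yon S).map u₁ ≫ a) := repWith_comp ((repWith_yon_iff u₁).2 inferInstance) ha
  have h2 : ∀ x, Synt.IsKoszulAt u₂.left x := hf ((yon S).map u₁ ≫ a) (r ≫ pullback.fst g c) u₂ ha' hb (by
    rw [← reassoc_of% sqU.w, show l ≫ pullback.fst g c = a ≫ f from pullback.lift_fst _ _ _, Category.assoc])
  have e : u₁ ≫ k = u₂ ≫ v := (yon S).map_injective (by
    rw [Functor.map_comp, Functor.map_comp, hv, ← reassoc_of% sqU.w,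
      show l ≫ pullback.snd g c = (yon S).map k from pullback.lift_snd _ _ _])
  refine KoszulFpqc.of_etale_source u₁.left k.left ?_
  rw [← Over.comp_left, e, Over.comp_left]
  exact KoszulLib.isKoszulAt_comp u₂.left v.left h2 (isKoszulAt_smooth v.left)

theorem st_lci : IsSmoothLocalST (LocP (S := S) AlgSp.lci) :=
  SmLocalST.isSmoothLocalST isLocalOnSource isLocalOnBase fun {_ Y Z} _ _ hf hg =>
    comp_smooth Y.property Z.property hf hg

theorem locQ_of_comp_smooth {𝒳 𝒴 𝒵 : AlgSt.Cat S} (h𝒳 : IsAlgStack Scheme.fppfPrecoverage 𝒳)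
    (h𝒴 : IsAlgStack Scheme.fppfPrecoverage 𝒴) (h𝒵 : IsAlgStack Scheme.fppfPrecoverage 𝒵)
    {f : 𝒳 ⥤ᵇ 𝒴} {q : 𝒴 ⥤ᵇ 𝒵} (hq : LocQ (LocP @Smooth) q)
    (hp : LocQ AlgSp.IsLCIMor (BasedFunctor.comp f q)) : LocQ AlgSp.IsLCIMor f := by
  obtain ⟨U, V, W, k, l, key, -⟩ := AlgStLib.exists_chain h𝒳 h𝒴 h𝒵 f q
  refine (key st_lci).1.2 ?_
  exact S10666.result (X := ⟨_, IsAlgSpace.yon_obj U⟩) (Y := ⟨_, IsAlgSpace.yon_obj V⟩) (Z := ⟨_, IsAlgSpace.yon_obj W⟩)
    (ObjectProperty.homMk ((yon S).map k)) (ObjectProperty.homMk ((yon S).map (k ≫ l)))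
    (ObjectProperty.homMk ((yon S).map l)) (by ext1; exact ((yon S).map_comp k l).symm)
    ((key AlgStLib.st_smooth).2.1.1 hq) ((key st_lci).2.2.1 hp)

end Groth.Agent.LciSmST
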